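import Groth.Agent.FlatLocus.ImmFibres
import Groth.Agent.S10861
import Groth.Agent.S0386
import Groth.Agent.S2387

/-! The locus of isomorphism on fibres is open, over an arbitrary base. -/

set_option autoImplicit false
set_option linter.style.haveILetI false
set_option backward.isDefEq.respectTransparency false

universe u

open CategoryTheory CategoryTheory.Limits AlgebraicGeometry TopologicalSpace

namespace Groth.Agent.FibIsoOpen

variable {X Y S : Scheme.{u}} (f : X ⟶ Y) (h : Y ⟶ S)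

theorem fiberMapOver_eq (s : S) :
    CohIII.fiberMapOver f (f ≫ h) h rfl s = MoreMor.fiberMap f h s := by
  apply pullback.hom_ext
  · exact (pullback.lift_fst _ _ _).trans (pullback.lift_fst _ _ _).symm
  · exact ((pullback.lift_snd _ _ _).trans (Category.comp_id _)).trans (pullback.lift_snd _ _ _).symm

/-- An isomorphism on the fibre over `s` is an isomorphism over a neighbourhood of `s`. -/
theorem exists_nhd [IsProper (f ≫ h)] [LocallyOfFinitePresentation (f ≫ h)] [Flat (f ≫ h)] [IsProper h]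
    (s : S) [IsIso (MoreMor.fiberMap f h s)] : ∃ U : S.Opens, s ∈ U ∧ IsIso (f ∣_ (h ⁻¹ᵁ U)) := by
  haveI : IsIso (CohIII.fiberMapOver f (f ≫ h) h rfl s) := by rw [fiberMapOver_eq]; infer_instance
  obtain ⟨U₀, hsU₀, hci⟩ := (Groth.Agent.S10861.result f (f ≫ h) h rfl s).2 inferInstance
  haveI := FlatLocus.locallyOfFinitePresentation_of_comp f h
  haveI : IsProper f := IsProper.of_comp f h
  let u := MoreMor.fiberMap f h s
  let Φ : Set X := {x | (f.stalkMap x).hom.Flat}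
  have hΦ : ∀ x, (f ≫ h) x = s → x ∈ Φ := fun x hx => by
    obtain ⟨z, hz⟩ : x ∈ Set.range ((f ≫ h).fiberι s) := by rw [(f ≫ h).range_fiberι]; exact hx
    exact ((FlatLocus.fibre_criterion f h s z x hz).mp ⟨Flat.stalkMap _ x,
      RingHom.Flat.of_bijective (ConcreteCategory.bijective_of_isIso (u.stalkMap z))⟩).2
  let U₁ : S.Opens := U₀ ⊓ ⟨((f ≫ h) '' Φᶜ)ᶜ,
    ((f ≫ h).isClosedMap _ (Groth.Agent.S0386.result f).isClosed_compl).isOpen_compl⟩
  have hsU₁ : s ∈ U₁ := ⟨hsU₀, fun ⟨x, hx, he⟩ => hx (hΦ x he)⟩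
  have hci₁ : IsClosedImmersion (f ∣_ (h ⁻¹ᵁ U₁)) := by
    let W₀ := h ⁻¹ᵁ U₀
    let W₁ := h ⁻¹ᵁ U₁
    have hle : W₁ ≤ W₀ := h.preimage_mono inf_le_left
    have h1 := IsZariskiLocalAtTarget.restrict (P := @IsClosedImmersion) hci (W₀.ι ⁻¹ᵁ W₁)
    refine (MorphismProperty.arrow_mk_iso_iff @IsClosedImmersion ?_).1 h1
    refine morphismRestrictRestrict f W₀ _ ≪≫ morphismRestrictEq f ?_
    rw [Scheme.Hom.image_preimage_eq_opensRange_inf, Scheme.Opens.opensRange_ι, inf_eq_right]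
    exact hle
  haveI hfl : Flat (f ∣_ (h ⁻¹ᵁ U₁)) := Flat.of_stalkMap _ fun x => by
    have hx : x.1 ∈ Φ := by_contra fun hx => x.2.2 ⟨x.1, hx, rfl⟩
    exact (RingHom.Flat.respectsIso.arrow_mk_iso_iff (morphismRestrictStalkMap f (h ⁻¹ᵁ U₁) x)).2 hx
  haveI : LocallyOfFinitePresentation (f ∣_ (h ⁻¹ᵁ U₁)) :=
    IsZariskiLocalAtTarget.restrict (P := @LocallyOfFinitePresentation) inferInstance _
  haveI : IsOpenImmersion (f ∣_ (h ⁻¹ᵁ U₁)) := IsOpenImmersion.of_flat_of_mono _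
  have hopen : IsOpen (Set.range f ∩ ((h ⁻¹ᵁ U₁ : Y.Opens) : Set Y)) := by
    have h1 := ((f ∣_ (h ⁻¹ᵁ U₁)) ≫ (h ⁻¹ᵁ U₁).ι).isOpenEmbedding.isOpen_range
    rw [morphismRestrict_ι] at h1
    convert h1 using 1
    ext y
    constructor
    · rintro ⟨⟨x, rfl⟩, hy⟩
      exact ⟨⟨x, hy⟩, rfl⟩
    · rintro ⟨x, rfl⟩
      exact ⟨⟨x.1, rfl⟩, x.2⟩
  let U : S.Opens := ⟨(h '' (Set.range f ∩ ((h ⁻¹ᵁ U₁ : Y.Opens) : Set Y))ᶜ)ᶜ,
    (h.isClosedMap _ hopen.isClosed_compl).isOpen_compl⟩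
  have hsU : s ∈ U := by
    rintro ⟨y, hy, rfl⟩
    refine hy ⟨?_, hsU₁⟩
    obtain ⟨z, hz⟩ := u.surjective (h.asFiber y)
    refine ⟨(f ≫ h).fiberι (h y) z, ?_⟩
    rw [← Scheme.Hom.comp_apply, ← FlatLocus.fiberMap_fiberι f h (h y), Scheme.Hom.comp_apply, hz,
      Scheme.Hom.fiberι_asFiber]
  have hsub : ∀ y : Y, y ∈ h ⁻¹ᵁ U → y ∈ Set.range f ∧ y ∈ h ⁻¹ᵁ U₁ := fun y hy => by
    by_contra hn
    exact hy ⟨y, hn, rfl⟩
  refine ⟨U, hsU, (isIso_iff_isOpenImmersion_and_surjective _).mpr ⟨?_, ⟨fun y => ?_⟩⟩⟩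
  · have h1 := IsZariskiLocalAtTarget.restrict (P := @IsOpenImmersion) (f := f ∣_ (h ⁻¹ᵁ U₁))
      inferInstance ((h ⁻¹ᵁ U₁).ι ⁻¹ᵁ (h ⁻¹ᵁ U))
    refine (MorphismProperty.arrow_mk_iso_iff @IsOpenImmersion ?_).1 h1
    refine morphismRestrictRestrict f _ _ ≪≫ morphismRestrictEq f ?_
    rw [Scheme.Hom.image_preimage_eq_opensRange_inf, Scheme.Opens.opensRange_ι, inf_eq_right]
    exact fun y hy => (hsub y hy).2
  · obtain ⟨x, hx⟩ := (hsub y.1 y.2).1
    refine ⟨⟨x, show f x ∈ h ⁻¹ᵁ U by rw [hx]; exact y.2⟩, Subtype.ext ?_⟩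
    exact (morphismRestrict_base_coe f _ _).trans hx

end Groth.Agent.FibIsoOpen

namespace Groth.Agent.FibIsoOpen

variable {X Y S : Scheme.{u}} (f : X ⟶ Y) (h : Y ⟶ S)

/-- An isomorphism over `U` is an isomorphism on the fibres over `U`. -/
theorem isIso_fiberMap {U : S.Opens} [IsIso (f ∣_ (h ⁻¹ᵁ U))] {s : S} (hs : s ∈ U) :
    IsIso (MoreMor.fiberMap f h s) := by
  let W := h ⁻¹ᵁ U
  have hr : Set.range (h.fiberι s) ⊆ Set.range W.ι := by
    rw [h.range_fiberι, Scheme.Opens.range_ι]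
    intro y hy
    show h y ∈ U
    rw [show h y = s from hy]
    exact hs
  let l := IsOpenImmersion.lift W.ι (h.fiberι s) hr
  have hP : MorphismProperty.isomorphisms Scheme (pullback.snd f (l ≫ W.ι)) := by
    have hp := ((IsPullback.of_hasPullback (f ∣_ W) l).paste_horiz (isPullback_morphismRestrict f W).flip)
    show IsIso _
    rw [← hp.isoPullback_inv_snd]
    infer_instance
  rw [IsOpenImmersion.lift_fac] at hP
  rw [← (FlatLocus.isPullback_fiberMap f h s).isoPullback_hom_snd]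
  haveI : IsIso (pullback.snd f (h.fiberι s)) := hP
  infer_instance

/-- The set of points with isomorphic fibres, as an open. -/
theorem exists_open [IsProper (f ≫ h)] [LocallyOfFinitePresentation (f ≫ h)] [Flat (f ≫ h)] [IsProper h] :
    ∃ U : S.Opens, (∀ s, s ∈ U ↔ IsIso (MoreMor.fiberMap f h s)) ∧ IsIso (f ∣_ (h ⁻¹ᵁ U)) := by
  choose V hsV hV using fun s : {s : S // IsIso (MoreMor.fiberMap f h s)} =>
    @exists_nhd _ _ _ f h _ _ _ _ s.1 s.2
  let U : S.Opens := ⨆ s, V s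
  refine ⟨U, fun s => ⟨fun hs => ?_, fun hs => ?_⟩, ?_⟩
  · obtain ⟨t, ht⟩ := Opens.mem_iSup.1 hs
    haveI := hV t
    exact isIso_fiberMap f h ht
  · exact Opens.mem_iSup.2 ⟨⟨s, hs⟩, hsV ⟨s, hs⟩⟩
  let W := h ⁻¹ᵁ U
  refine (IsZariskiLocalAtTarget.of_iSup_eq_top (P := MorphismProperty.isomorphisms Scheme)
    (fun t => W.ι ⁻¹ᵁ (h ⁻¹ᵁ V t)) ?_ fun t => ?_)
  · refine top_le_iff.1 fun x _ => ?_
    obtain ⟨t, ht⟩ := Opens.mem_iSup.1 x.2
    exact Opens.mem_iSup.2 ⟨t, ht⟩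
  · refine ((MorphismProperty.isomorphisms Scheme).arrow_mk_iso_iff ?_).1 (hV t)
    refine morphismRestrictEq f ?_ ≪≫ (morphismRestrictRestrict f W _).symm
    rw [Scheme.Hom.image_preimage_eq_opensRange_inf, Scheme.Opens.opensRange_ι, inf_eq_right.mpr]
    exact h.preimage_mono (le_iSup V t)

end Groth.Agent.FibIsoOpen
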